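import Cfsg.Agent.Ly.Setup
import Cfsg.Agent.Ly.Centr

/-!
# `Ly`: the centralizer of an element of order 25 in `G₂(5)` (helper456)

`y = a b a⁻¹ c`, a regular unipotent element of `Ĥ = G₂(5) ≤ GL₇(5)`; `N = y - 1`, `N' = y⁻¹ - 1`.

* `conj_sq` : `y` is conjugate to `y ^ 2` in `Ĥ`;
* `cent`    : an element of 5-power order of `Ĥ` commuting with `y` is a power of `y`.

`z = ∑ aᵢ Nⁱ` (cyclic vector), the invariant form gives `(∑ aᵢ Nⁱ) (∑ aᵢ N'ⁱ) = 1`; the solutions (250) are powers of
`y`, or their order is not a power of 5, or differ by a power of `y` from one of four elements `k` with `(k v) ^ |Ĥ| ≠ 1`.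
-/

set_option autoImplicit false
set_option maxRecDepth 100000

namespace Cfsg.Agent.H456.SB.LyC

open Cfsg.Agent.Lib.PackMat Cfsg.Agent.Ly.Mat7 Cfsg.Agent.Ly.CoverCore Cfsg.Agent.Ly.Cover Cfsg.Agent.Ly.Centr

/-- matrices -/
abbrev Mt := Matrix (Fin 7) (Fin 7) (ZMod 5)

def W : List ℕ := [0, 1, 4, 2]

def V : List ℕ := [2, 1, 2, 1, 4, 5, 2]

/-- the element of order 25 -/
noncomputable def y : GL75 := ev gen W

theorem y_mem : y ∈ Hhat := ev_mem_Hhat W

theorem ev_pow {G : Type*} [Group G] (x : Fin 4 → G) (w : List ℕ) (n : ℕ) :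
    ev x w ^ n = ev x (List.replicate n w).flatten := by
  induction n with
  | zero => rw [pow_zero, List.replicate_zero, List.flatten_nil, ev_nil]
  | succ n ih => rw [pow_succ', ih, List.replicate_succ, List.flatten_cons, ev_append]

theorem conj_sq : ev gen V * y * (ev gen V)⁻¹ = y ^ 2 := by
  rw [mul_inv_eq_iff_eq_mul]
  unfold y
  rw [ev_pow, ← ev_append, ← ev_append]
  exact word_eq (by decide +kernel)

theorem pow25 : y ^ 25 = 1 := by
  unfold y
  rw [ev_pow, ← ev_nil gen]
  exact word_eq (by decide +kernel)

/-! ### the codes -/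

/-- codes of `Nⁱ` and `N'ⁱ` (`i < 7`) -/
def TN : ℕ := 0x200030000000000000000000000020003000000000000000000000000000000000000000000000000000000000000000000000000000000000000000000000000000000000000000000000000000000000000000000000000000000000000000000010000000000000000000000000000000100000000000000000000000000000000000000000000000000000000000000000000000000000001000400000000000000000000000100040000000000000000000000010004000000000000000000000000000400010003000100000000000200040001000300010000000000000000000000000000000000000000000000000000000000000000000200010000000000000000000000030000000000000000000000000004000400000000000000000000000200010002000400040000000000030003000400000001000000000000000000000000000000000000000000000000000000000000000000000004000300040003000000000004000300030004000300000000000000000003000400030000000000030004000100000001000000000001000000000003000400000000000200030000000000000000000000020003000000000000000000000004000200030003000400000000000000010001000200020000000000040003000400010000000000000002000000030002000000020003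000100000003000100000002000300010000000000000000000000000000000100000000000000000000000000000001000000000000000000000000000000010000000000000000000000000000000100000000000000000000000000000001000000000000000000000000000000010000000000000000000000000000000000000000000000000000000000000000000000000000000000000000000000000000000000000000000000000000000000000000000000020003000000000000000000000002000300000000000000000000000000000000000000000000000000000000000000000000000000000000000000000000000000000000000000000000000000000000000000000000000000000000000000000004000000000000000000000000000000040000000000000000000000000000000000000000000000000000000000000000000000000000000100040000000000000000000000010004000000000000000000000001000400000000000000000000000100040001000300010000000000020000000100030001000000000000000000000000000000000000000000000000000000000000000000010001000000000000000000000000000200000000000000000000000400030000000000000000000000020001000100000004000000000003000300040004000200000000000000000000000000000000000000000000000000000000000000000004000400030004000300000000000100000003000400030000000000000004000300040003000000000000000400000001000100000000000100020000000200000000000000030002000000000000000000000003000200000000000000000000000000000000000100040000000000020001000200020001000000000003000200040003000300000000000000000002000200030003000200010003000400000004000300020001000000000000000000000000000000010000000000000000000000000000000100000000000000000000000000000001000000000000000000000000000000010000000000000000000000000000000100000000000000000000000000000001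

/-- the rows `0` of `Nⁱ` -/
def CC : ℕ := 0x2000300000000000000000000000000040000000000000000000000020000000100030001000000000003000300040004000200000000000100020000000200000000000000010003000400000004000300020000000000000000000000000001

def DC : ℕ := 0x3000400000000000000000000000000040000000000000000000000000000000400030003000000000001000400000000000300000000000100000002000200030000000000010003000200000002000200010000000000000000000000000001

/-- the inverse of the Gram matrix -/
def BI : ℕ := 0x2000000000000000000000003000000000000000000000002000000000000000000000001000000000000000000000002000000000000000000000003000000000000000000000002000000000000000000000000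

/-- codes of four words -/
def TV : ℕ := 0x40000000000000000000000000000000400000000000100000000000000000000000000000001000000000000000000000000000000010000000000010000000000000000000000000000000100000000000000000000000000000000000000000004000000000000000000000000000000040000000000010000000000000000000000000000000100000000000000000000000000000001000000000001000000000000000000000000000000010000000000000000000000000000000000000000000400000000000000000000000000000004000000000001000000000000000000000000000000010000000000000000000000000000000100000000000100000000000000000000000000000001000000000000000000000000000000000000000000040004000000000000000000000000000400000000000100020001000000000000000000000001000100000000000000000000000000010000000000010001000000000000000000000000000100000000000000000000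

def ws : List (List ℕ) := [[1, 3], [3], [3], [3]]

/-- codes of four elements -/
def TK : ℕ := 0x3000300000000000000000000000200040000000000000000000000030001000400030004000000000000000400010003000200000000000000000004000100010000000000030000000200020001000300030002000200040002000300020004000000010000000000000000000000040002000000000000000000000003000400000000000100000000000100040000000400020000000000020003000100010004000000000000000100020000000000000001000000010000000300020004000200020004000000000000000000000001000000000000000000000000000200000004000100010000000000010000000200040000000000000000000300010000000000000000000200020002000300010002000400040000000200030003000100000004000200000000000000000000000300030000000000000000000000030004000100010004000000000004000100020003000100000000000400030004000300040000000000040003000000030004000400020004000400000000000300030003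

/-- `y - 1` -/
noncomputable def N : Mt := (y : Mt) - 1

/-- `y⁻¹ - 1` -/
noncomputable def N' : Mt := ((y⁻¹ : GL75) : Mt) - 1

theorem ok_TN : ∀ i < 14, Ok (tab TN i) := by
  have h : ∀ i < 14, okN (tab TN i) = true := by decide +kernel
  exact fun i hi => okN_spec (h i hi)

theorem toM_add_one {X Y : ℕ} (h : ∀ i < 7, ∀ j < 7, (dg 16 X (7 * i + j) + if i = j then 1 else 0) % 5 =
    dg 16 Y (7 * i + j) % 5) : toM Y - 1 = toM X := by
  rw [sub_eq_iff_eq_add]
  ext i j
  have h1 := h i i.2 j j.2
  have h2 : ((dg 16 Y (7 * i + j) : ℕ) : ZMod 5) = (((dg 16 X (7 * i + j) + if (i : ℕ) = j then 1 else 0) : ℕ) : ZMod 5) := by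
    rw [ZMod.natCast_eq_natCast_iff]
    exact h1.symm
  show ((dg 16 Y (7 * i + j) : ℕ) : ZMod 5) = toM X i j + (1 : Mt) i j
  rw [h2, Matrix.one_apply]
  simp only [← Fin.ext_iff]
  push_cast
  rfl

theorem N_one : N = toM (tab TN 1) := by
  have h1 : (y : Mt) = toM (evalW W) := (rep_evalW W).2
  rw [N, h1]
  exact toM_add_one (by decide +kernel)

theorem N'_one : N' = toM (tab TN 8) := by
  have h1 : ((y⁻¹ : GL75) : Mt) = toM (evalW (invW W)) := by
    unfold y
    rw [← ev_invW]
    exact (rep_evalW (invW W)).2
  rw [N', h1]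
  exact toM_add_one (by decide +kernel)

theorem N_pow : ∀ i < 7, toM (tab TN i) = N ^ i := by
  intro i
  induction i with
  | zero =>
    intro _
    rw [pow_zero, ← toM_oneN]
    congr 1
  | succ i ih =>
    intro hi
    have h : ∀ i < 6, mulN (tab TN i) (tab TN 1) = tab TN (i + 1) := by decide +kernel
    rw [← h i (by omega), toM_mulN (ok_TN i (by omega)) (ok_TN 1 (by omega)), ih (by omega), ← N_one, ← pow_succ]

theorem N'_pow : ∀ i < 7, toM (tab TN (7 + i)) = N' ^ i := by
  intro i
  induction i with
  | zero =>
    intro _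
    rw [pow_zero, ← toM_oneN]
    congr 1
  | succ i ih =>
    intro hi
    have h : ∀ i < 6, mulN (tab TN (7 + i)) (tab TN 8) = tab TN (7 + (i + 1)) := by decide +kernel
    rw [← h i (by omega), toM_mulN (ok_TN (7 + i) (by omega)) (ok_TN 8 (by omega)), ih (by omega), ← N'_one, ← pow_succ]

theorem N_seven : N ^ 7 = 0 := by
  rw [pow_succ, ← N_pow 6 (by omega), N_one, ← toM_mulN (ok_TN 6 (by omega)) (ok_TN 1 (by omega))]
  have h : mulN (tab TN 6) (tab TN 1) = 0 := by decide +kernel
  rw [h]
  ext i j
  show ((dg 16 0 (7 * i + j) : ℕ) : ZMod 5) = 0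
  rw [dg_def, Nat.zero_div, Nat.zero_mod, Nat.cast_zero]

theorem N'_eq : N' = - (((y⁻¹ : GL75) : Mt) * N) := by
  have h1 : ((y⁻¹ : GL75) : Mt) * (y : Mt) = 1 := by rw [← Units.val_mul, inv_mul_cancel, Units.val_one]
  rw [N, N', mul_sub, h1, mul_one, neg_sub]

theorem comm_inv : Commute ((y⁻¹ : GL75) : Mt) N := by
  have h1 : Commute ((y⁻¹ : GL75) : Mt) (y : Mt) := by
    show ((y⁻¹ : GL75) : Mt) * (y : Mt) = (y : Mt) * ((y⁻¹ : GL75) : Mt)
    rw [← Units.val_mul, ← Units.val_mul, inv_mul_cancel, mul_inv_cancel]
  exact h1.sub_right (Commute.one_right _)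

theorem comm_NN' : Commute N' N := by
  rw [N'_eq]
  exact (comm_inv.mul_left (Commute.refl N)).neg_left

theorem N_mul_zero {i j : ℕ} (h : 7 ≤ i + j) : N ^ i * N ^ j = 0 := by
  rw [← pow_add, ← Nat.add_sub_cancel' h, pow_add, N_seven, zero_mul]

theorem N'_mul_zero {i j : ℕ} (h : 7 ≤ i + j) : N' ^ i * N ^ j = 0 := by
  rw [N'_eq, neg_pow, comm_inv.mul_pow, mul_assoc, mul_assoc, N_mul_zero h, mul_zero, mul_zero]

theorem rep_ws : ∀ i < 4, Rep (tab TV i) (ev gen (ws.getD i [])) := by
  intro i hi
  have h : ∀ i < 4, evalW (ws.getD i []) = tab TV i := by decide +kernel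
  rw [← h i hi]
  exact rep_evalW _

/-! ### linear combinations -/

theorem ok_of {f : ℕ → ℕ} (hf : ∀ l, f l ≤ 4) : Ok (E 16 f 49) := by
  have h0 : ∀ l < 49, f l < 2 ^ 16 := fun l _ => by have := hf l; omega
  refine ⟨E_lt h0, fun i => ?_⟩
  by_cases hi : i < 49
  · rw [dg_E h0 hi]
    exact hf i
  · rw [dg_eq_zero (E_lt h0) (by omega)]
    omega

/-- the packed linear combination -/
def lin (P : ℕ → ℕ) (c : ℕ → ℕ) (n : ℕ) : ℕ := ∑ i ∈ Finset.range n, c i * P i

theorem lin_spec {P c : ℕ → ℕ} {n : ℕ} (hn : n ≤ 7) (hP : ∀ i < n, Ok (P i)) (hc : ∀ i, c i ≤ 4) :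
    Ok (red (lin P c n)) ∧ toM (red (lin P c n)) = ∑ i ∈ Finset.range n, (c i : ZMod 5) • toM (P i) := by
  have h1 : lin P c n = E 16 (fun l => ∑ i ∈ Finset.range n, c i * dg 16 (P i) l) 49 := by
    unfold lin
    rw [E_def]
    simp only [Finset.sum_mul]
    rw [Finset.sum_comm]
    refine Finset.sum_congr rfl fun i hi => ?_
    have h2 := E_dg (hP i (Finset.mem_range.1 hi)).1
    conv_lhs => rw [← h2]
    rw [E_def, Finset.mul_sum]
    exact Finset.sum_congr rfl fun l _ => by ring
  have hf : ∀ l, ∑ i ∈ Finset.range n, c i * dg 16 (P i) l ≤ 112 := by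
    intro l
    calc ∑ i ∈ Finset.range n, c i * dg 16 (P i) l ≤ ∑ i ∈ Finset.range n, 4 * 4 :=
          Finset.sum_le_sum fun i hi => Nat.mul_le_mul (hc i) ((hP i (Finset.mem_range.1 hi)).2 l)
      _ = n * 16 := by simp
      _ ≤ 112 := by omega
  rw [h1, red_E hf]
  refine ⟨ok_of fun l => by omega, ?_⟩
  ext a b
  have ha := a.2
  have hb := b.2
  have h0 : ∀ l < 49, (∑ i ∈ Finset.range n, c i * dg 16 (P i) l) % 5 < 2 ^ 16 := fun l _ => by omega
  show (((dg 16 (E 16 _ 49) (7 * a + b)) : ℕ) : ZMod 5) = _
  rw [dg_E h0 (by omega), ZMod.natCast_mod]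
  rw [Matrix.sum_apply]
  push_cast
  refine Finset.sum_congr rfl fun i _ => ?_
  rw [Matrix.smul_apply, smul_eq_mul]
  rfl

/-! ### powers -/

/-- binary power -/
noncomputable def powK (X : ℕ) : List Bool → ℕ → ℕ
  | [], A => A
  | b :: l, A => force (mulN A A) fun S => bif b then force (mulN S X) (powK X l) else powK X l S

def val : List Bool → ℕ → ℕ
  | [], m => m
  | b :: l, m => val l (2 * m + (bif b then 1 else 0))

theorem powK_spec {X : ℕ} {g : GL75} (hX : Rep X g) : ∀ (l : List Bool) (A m : ℕ), Rep A (g ^ m) →
    Rep (powK X l A) (g ^ val l m) := by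
  intro l
  induction l with
  | nil => intro A m h; exact h
  | cons b l ih =>
    intro A m h
    have h1 : Rep (mulN A A) (g ^ (2 * m)) := by
      have h2 := Rep.mul h h
      rw [mulF_eq, ← pow_add, ← two_mul] at h2
      exact h2
    cases b with
    | true =>
      have h3 : Rep (mulN (mulN A A) X) (g ^ (2 * m + 1)) := by
        have h2 := Rep.mul h1 hX
        rw [mulF_eq, ← pow_succ] at h2
        exact h2
      exact ih _ _ h3
    | false => exact ih _ _ h1

def bH : List Bool := [true, false, true, false, true, true, true, false, true, false, false, true, true, true, false, false, true, false, false, true, true, true, true, true, false, true, true, false, false, false, false, false, false]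

def b5 : List Bool := [true, true, true, true, false, true, false, false, false, false, true, false, false, true]

theorem val_bH : val bH 0 = 5859000000 := by decide +kernel

theorem val_b5 : val b5 0 = 15625 := by decide +kernel

/-- the power is not one -/
noncomputable def npow (b : List Bool) (X : ℕ) : Bool := bif Nat.beq (powK X b oneN) oneN then false else true

theorem npow_spec {X : ℕ} {g : GL75} (hX : Rep X g) {b : List Bool} (h : npow b X = true) : g ^ val b 0 ≠ 1 := by
  intro h1
  have h2 := powK_spec hX b oneN 0 (by rw [pow_zero]; exact rep_one)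
  rw [h1] at h2
  have h3 := Rep.code h2 rep_one
  unfold npow at h
  rw [h3, Nat.beq_refl] at h
  exact Bool.noConfusion h

def YC : ℕ := 0x4000200000000000000000000000300030000000000000000000000000000000100010004000000000002000100020003000100000000000300020004000300040000000000000000000200020003000400020001000300040000000400030003

theorem rep_YC : Rep YC y := by
  have h : evalW W = YC := by decide +kernel
  rw [← h]
  exact rep_evalW W

/-- one of the four elements -/
noncomputable def inK (X : ℕ) (n : ℕ) : Bool :=
  Nat.rec false (fun i ih => bif Nat.beq X (tab TK i) then true else ih) n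

theorem inK_spec {X : ℕ} : ∀ n, inK X n = true → ∃ i < n, X = tab TK i := by
  intro n
  induction n with
  | zero => intro h; exact Bool.noConfusion h
  | succ n ih =>
    intro h
    have h1 : inK X (n + 1) = (bif Nat.beq X (tab TK n) then true else inK X n) := rfl
    rw [h1] at h
    cases h2 : Nat.beq X (tab TK n) with
    | true => exact ⟨n, Nat.lt_succ_self n, Nat.eq_of_beq_eq_true h2⟩
    | false =>
      rw [h2] at h
      obtain ⟨i, hi, h3⟩ := ih h
      exact ⟨i, Nat.lt_succ_of_lt hi, h3⟩

/-- one of `X, X y, …, X y ^ (n - 1)` satisfies `f` -/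
noncomputable def isCos (Y : ℕ) (f : ℕ → Bool) (n : ℕ) : ℕ → Bool :=
  Nat.rec (fun _ => false) (fun _ ih X => bif f X then true else force (mulN X Y) ih) n

theorem isCos_spec {z g : GL75} {Y : ℕ} (hY : Rep Y g) {f : ℕ → Bool} : ∀ (n X m : ℕ), Rep X (z * g ^ m) →
    isCos Y f n X = true → ∃ (k : ℕ) (X' : ℕ), f X' = true ∧ Rep X' (z * g ^ k) := by
  intro n
  induction n with
  | zero => intro X m _ h; exact Bool.noConfusion h
  | succ n ih =>
    intro X m hX h
    have h1 : isCos Y f (n + 1) X = (bif f X then true else isCos Y f n (mulN X Y)) := rfl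
    rw [h1] at h
    cases h2 : f X with
    | true => exact ⟨m, X, h2, hX⟩
    | false =>
      rw [h2] at h
      have h5 : Rep (mulN X Y) (z * g ^ (m + 1)) := by
        have h6 := Rep.mul hX hY
        rw [mulF_eq, mul_assoc, ← pow_succ] at h6
        exact h6
      exact ih _ _ h5 h

/-- the identity or one of the four elements -/
noncomputable def oneK (O : ℕ) (X : ℕ) : Bool := bif Nat.beq X O then true else inK X 4

theorem oneK_spec {O X : ℕ} (h : oneK O X = true) : X = O ∨ ∃ i < 4, X = tab TK i := by
  unfold oneK at h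
  cases h2 : Nat.beq X O with
  | true => exact Or.inl (Nat.eq_of_beq_eq_true h2)
  | false =>
    rw [h2] at h
    exact Or.inr (inK_spec 4 h)

/-- the four elements are not in `Ĥ` -/
theorem not_mem : ∀ i < 4, npow bH (mulN (tab TK i) (tab TV i)) = true := by decide +kernel

/-- the survivors -/
noncomputable def good (Z : ℕ) : Bool := bif npow b5 Z then true else isCos YC (oneK oneN) 25 Z

theorem good_spec {Z : ℕ} {z : GL75} (hrep : Rep Z z) (h : good Z = true) (h5 : z ^ 15625 = 1) :
    ∃ (k : ℕ) (X' : ℕ), oneK oneN X' = true ∧ Rep X' (z * y ^ k) := by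
  unfold good at h
  cases h6 : npow b5 Z with
  | true =>
    have h7 := npow_spec hrep h6
    rw [val_b5] at h7
    exact absurd h5 h7
  | false =>
    rw [h6, cond_false] at h
    exact isCos_spec rep_YC 25 Z 0 (by rw [pow_zero, mul_one]; exact hrep) h

/-- the necessary condition at level `k` -/
noncomputable def chk (z q m : ℕ) : Bool :=
  force (red z) fun Z => force (red q) fun Q => force (mulN Z Q) fun R => Nat.beq (mulN R m) m

theorem chk_eq (z q m : ℕ) : chk z q m = Nat.beq (mulN (mulN (red z) (red q)) m) m := rfl

/-- all linear combinations -/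
noncomputable def loop : List (ℕ × ℕ × ℕ) → ℕ → ℕ → Bool
  | [], z, _ => good (red z)
  | p :: l, z, q => allBelow (fun c => force (Nat.add z (Nat.mul c p.1)) fun z' =>
      force (Nat.add q (Nat.mul c p.2.1)) fun q' => bif chk z' q' p.2.2 then loop l z' q' else true) 5

theorem loop_cons {p : ℕ × ℕ × ℕ} {l : List (ℕ × ℕ × ℕ)} {z q : ℕ} (h : loop (p :: l) z q = true) {c : ℕ} (hc : c < 5)
    (hk : chk (z + c * p.1) (q + c * p.2.1) p.2.2 = true) : loop l (z + c * p.1) (q + c * p.2.1) = true := by
  have h1 : (bif chk (z + c * p.1) (q + c * p.2.1) p.2.2 then loop l (z + c * p.1) (q + c * p.2.1) else true) = true :=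
    allBelow_spec h c hc
  rw [hk] at h1
  exact h1

/-- the list -/
def LL (i : ℕ) : ℕ × ℕ × ℕ := (tab TN i, tab TN (7 + i), tab TN (6 - i))

theorem p10 : loop [LL 2, LL 3, LL 4, LL 5, LL 6] (1 * tab TN 0 + 0 * tab TN 1)
    (1 * tab TN 7 + 0 * tab TN 8) = true := by decide +kernel

theorem p11 : loop [LL 2, LL 3, LL 4, LL 5, LL 6] (1 * tab TN 0 + 1 * tab TN 1)
    (1 * tab TN 7 + 1 * tab TN 8) = true := by decide +kernel

theorem p12 : loop [LL 2, LL 3, LL 4, LL 5, LL 6] (1 * tab TN 0 + 2 * tab TN 1)
    (1 * tab TN 7 + 2 * tab TN 8) = true := by decide +kernel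

theorem p13 : loop [LL 2, LL 3, LL 4, LL 5, LL 6] (1 * tab TN 0 + 3 * tab TN 1)
    (1 * tab TN 7 + 3 * tab TN 8) = true := by decide +kernel

theorem p14 : loop [LL 2, LL 3, LL 4, LL 5, LL 6] (1 * tab TN 0 + 4 * tab TN 1)
    (1 * tab TN 7 + 4 * tab TN 8) = true := by decide +kernel

theorem p40 : loop [LL 2, LL 3, LL 4, LL 5, LL 6] (4 * tab TN 0 + 0 * tab TN 1)
    (4 * tab TN 7 + 0 * tab TN 8) = true := by decide +kernel

theorem p41 : loop [LL 2, LL 3, LL 4, LL 5, LL 6] (4 * tab TN 0 + 1 * tab TN 1)
    (4 * tab TN 7 + 1 * tab TN 8) = true := by decide +kernel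

theorem p42 : loop [LL 2, LL 3, LL 4, LL 5, LL 6] (4 * tab TN 0 + 2 * tab TN 1)
    (4 * tab TN 7 + 2 * tab TN 8) = true := by decide +kernel

theorem p43 : loop [LL 2, LL 3, LL 4, LL 5, LL 6] (4 * tab TN 0 + 3 * tab TN 1)
    (4 * tab TN 7 + 3 * tab TN 8) = true := by decide +kernel

theorem p44 : loop [LL 2, LL 3, LL 4, LL 5, LL 6] (4 * tab TN 0 + 4 * tab TN 1)
    (4 * tab TN 7 + 4 * tab TN 8) = true := by decide +kernel

theorem run2 (c0 c1 : ℕ) (h0 : c0 < 5) (h1 : c1 < 5) (k0 : chk (c0 * tab TN 0) (c0 * tab TN 7) (tab TN 6) = true) :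
    loop [LL 2, LL 3, LL 4, LL 5, LL 6] (c0 * tab TN 0 + c1 * tab TN 1) (c0 * tab TN 7 + c1 * tab TN 8) = true := by
  have hc : ∀ c < 5, chk (c * tab TN 0) (c * tab TN 7) (tab TN 6) = true → c = 1 ∨ c = 4 := by decide +kernel
  rcases hc c0 h0 k0 with rfl | rfl
  · interval_cases c1
    · exact p10
    · exact p11
    · exact p12
    · exact p13
    · exact p14
  · interval_cases c1
    · exact p40
    · exact p41
    · exact p42
    · exact p43
    · exact p44

theorem good_all (c : ℕ → ℕ) (hc : ∀ i, c i < 5) (hk : ∀ k < 7, chk (lin (tab TN) c (k + 1))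
    (lin (fun i => tab TN (7 + i)) c (k + 1)) (tab TN (6 - k)) = true) : good (red (lin (tab TN) c 7)) = true := by
  have e : ∀ (P : ℕ → ℕ) k, lin P c (k + 1) = lin P c k + c k * P k := fun P k => Finset.sum_range_succ _ _
  have step : ∀ (k : ℕ) (hk7 : k < 7) (l : List (ℕ × ℕ × ℕ)),
      loop (LL k :: l) (lin (tab TN) c k) (lin (fun i => tab TN (7 + i)) c k) = true →
      loop l (lin (tab TN) c (k + 1)) (lin (fun i => tab TN (7 + i)) c (k + 1)) = true := by
    intro k hk7 l h
    have h1 := hk k hk7
    rw [e, e] at h1 ⊢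
    exact loop_cons h (hc k) h1
  have h1 := run2 (c 0) (c 1) (hc 0) (hc 1) (by
    have h2 := hk 0 (by omega)
    have e1 : lin (tab TN) c (0 + 1) = c 0 * tab TN 0 := by
      unfold lin
      rw [Finset.sum_range_succ, Finset.sum_range_zero, zero_add]
    have e2 : lin (fun i => tab TN (7 + i)) c (0 + 1) = c 0 * tab TN 7 := by
      unfold lin
      rw [Finset.sum_range_succ, Finset.sum_range_zero, zero_add]
    rwa [e1, e2] at h2)
  have h3 : loop [LL 2, LL 3, LL 4, LL 5, LL 6] (lin (tab TN) c 2) (lin (fun i => tab TN (7 + i)) c 2) = true := by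
    have e1 : lin (tab TN) c 2 = c 0 * tab TN 0 + c 1 * tab TN 1 := by
      unfold lin
      rw [Finset.sum_range_succ, Finset.sum_range_succ, Finset.sum_range_zero, zero_add]
    have e2 : lin (fun i => tab TN (7 + i)) c 2 = c 0 * tab TN 7 + c 1 * tab TN 8 := by
      unfold lin
      rw [Finset.sum_range_succ, Finset.sum_range_succ, Finset.sum_range_zero, zero_add]
    rw [e1, e2]
    exact h1
  have h4 := step 2 (by omega) _ h3
  have h5 := step 3 (by omega) _ h4
  have h6 := step 4 (by omega) _ h5
  have h7 := step 5 (by omega) _ h6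
  exact step 6 (by omega) _ h7

/-! ### the centralizer -/

theorem DC_CC : toM DC * toM CC = 1 := by
  rw [← toM_mulN (okN_spec (by decide +kernel)) (okN_spec (by decide +kernel)), ← toM_oneN]
  congr 1

theorem CC_row (j k : Fin 7) : toM CC j k = (N ^ (j : ℕ)) 0 k := by
  rw [← N_pow j j.2]
  have h : ∀ j < 7, ∀ k < 7, dg 16 CC (7 * j + k) = dg 16 (tab TN j) (7 * 0 + k) := by decide +kernel
  show ((dg 16 CC (7 * j + k) : ℕ) : ZMod 5) = ((dg 16 (tab TN j) (7 * 0 + k) : ℕ) : ZMod 5)
  rw [h j j.2 k k.2]

theorem BC_BI : toM BC * toM BI = 1 := by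
  rw [← toM_mulN (okN_spec (by decide +kernel)) (okN_spec (by decide +kernel)), ← toM_oneN]
  congr 1

/-- the coefficients -/
theorem exists_coeff {z : GL75} (hc : z * y = y * z) : ∃ a : ℕ → ZMod 5,
    (z : Mt) = ∑ i ∈ Finset.range 7, a i • N ^ i := by
  let v : Fin 7 → ZMod 5 := fun k => ∑ l, (z : Mt) 0 l * toM DC l k
  let a : ℕ → ZMod 5 := fun i => if h : i < 7 then v ⟨i, h⟩ else 0
  have ha : ∀ i : Fin 7, a i = v i := fun i => by
    show (if h : (i : ℕ) < 7 then v ⟨i, h⟩ else 0) = v i
    rw [dif_pos i.2]
  refine ⟨a, ?_⟩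
  set p : Mt := ∑ i ∈ Finset.range 7, a i • N ^ i with hp
  have hcomm : ∀ j : ℕ, N ^ j * (z : Mt) = (z : Mt) * N ^ j := by
    intro j
    have h1 : Commute (z : Mt) (y : Mt) := by
      show (z : Mt) * (y : Mt) = (y : Mt) * (z : Mt)
      rw [← Units.val_mul, hc, Units.val_mul]
    have h2 : Commute (z : Mt) N := h1.sub_right (Commute.one_right _)
    exact (h2.pow_right j).eq.symm
  have hcommp : ∀ j : ℕ, N ^ j * p = p * N ^ j := by
    intro j
    rw [hp, Finset.mul_sum, Finset.sum_mul]
    refine Finset.sum_congr rfl fun i _ => ?_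
    rw [Matrix.mul_smul, Matrix.smul_mul, ← pow_add, ← pow_add, add_comm]
  -- the rows 0
  have h0 : ∀ k, (z : Mt) 0 k = p 0 k := by
    intro k
    have h1 : p 0 k = ∑ i : Fin 7, v i * toM CC i k := by
      rw [hp, Matrix.sum_apply, Finset.sum_range]
      refine Finset.sum_congr rfl fun i _ => ?_
      rw [Matrix.smul_apply, smul_eq_mul, ha, CC_row]
    rw [h1]
    have h2 : ∑ i : Fin 7, v i * toM CC i k = ∑ l, (z : Mt) 0 l * (toM DC * toM CC) l k := by
      simp only [v, Finset.sum_mul, Matrix.mul_apply, Finset.mul_sum]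
      rw [Finset.sum_comm]
      exact Finset.sum_congr rfl fun l _ => Finset.sum_congr rfl fun i _ => by ring
    rw [h2, DC_CC]
    simp [Matrix.one_apply]
  have h1 : toM CC * ((z : Mt) - p) = 0 := by
    ext j k
    rw [Matrix.mul_apply]
    have h2 : ∑ l, toM CC j l * ((z : Mt) - p) l k = (N ^ (j : ℕ) * ((z : Mt) - p)) 0 k := by
      rw [Matrix.mul_apply]
      exact Finset.sum_congr rfl fun l _ => by rw [CC_row]
    rw [h2, mul_sub, hcomm, hcommp, ← sub_mul, Matrix.mul_apply]
    refine Finset.sum_eq_zero fun l _ => ?_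
    rw [Matrix.sub_apply, h0 l, sub_self, zero_mul]
  have h2 : (z : Mt) - p = 0 := by
    calc (z : Mt) - p = (toM DC * toM CC) * ((z : Mt) - p) := by rw [DC_CC, one_mul]
      _ = toM DC * (toM CC * ((z : Mt) - p)) := by rw [mul_assoc]
      _ = 0 := by rw [h1, mul_zero]
  exact sub_eq_zero.1 h2

/-- the form -/
theorem mul_eq_one {z : GL75} (hz : z ∈ Hhat) {a : ℕ → ZMod 5}
    (ha : (z : Mt) = ∑ i ∈ Finset.range 7, a i • N ^ i) :
    (z : Mt) * ∑ i ∈ Finset.range 7, a i • N' ^ i = 1 := by
  have h1 := form_Hhat hz
  have hy1 : toM BC * (y : Mt).transpose = ((y⁻¹ : GL75) : Mt) * toM BC := by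
    have h2 := form_Hhat y_mem
    have h3 : ((y⁻¹ : GL75) : Mt) * (y : Mt) = 1 := by
      rw [← Units.val_mul, inv_mul_cancel, Units.val_one]
    calc toM BC * (y : Mt).transpose
        = (((y⁻¹ : GL75) : Mt) * (y : Mt)) * (toM BC * (y : Mt).transpose) := by
          rw [h3, one_mul]
      _ = ((y⁻¹ : GL75) : Mt) * ((y : Mt) * toM BC * (y : Mt).transpose) := by
          simp only [mul_assoc]
      _ = _ := by rw [h2]
  have hy2 : toM BC * N.transpose = N' * toM BC := by
    rw [N, N', Matrix.transpose_sub, Matrix.transpose_one, mul_sub, sub_mul, hy1, mul_one, one_mul]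
  have hy : ∀ i : ℕ, toM BC * (N ^ i).transpose = N' ^ i * toM BC := by
    intro i
    induction i with
    | zero => rw [pow_zero, pow_zero, Matrix.transpose_one, mul_one, one_mul]
    | succ i ih =>
      rw [pow_succ, Matrix.transpose_mul, ← mul_assoc, hy2, mul_assoc, ih, ← mul_assoc, ← pow_succ']
  have h2 : toM BC * (z : Mt).transpose = (∑ i ∈ Finset.range 7, a i • N' ^ i) * toM BC := by
    rw [ha, Matrix.transpose_sum, Finset.mul_sum, Finset.sum_mul]
    refine Finset.sum_congr rfl fun i _ => ?_
    rw [Matrix.transpose_smul, Matrix.mul_smul, Matrix.smul_mul, hy]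
  rw [mul_assoc, h2] at h1
  calc (z : Mt) * ∑ i ∈ Finset.range 7, a i • N' ^ i
      = ((z : Mt) * ((∑ i ∈ Finset.range 7, a i • N' ^ i) * toM BC)) * toM BI := by
        simp only [mul_assoc, BC_BI, mul_one]
    _ = 1 := by rw [h1, BC_BI]

/-- truncation -/
theorem trunc {a : ℕ → ZMod 5} {k : ℕ} (hk : k ≤ 7) :
    (∑ i ∈ Finset.range 7, a i • N ^ i) * N ^ (7 - k) = (∑ i ∈ Finset.range k, a i • N ^ i) * N ^ (7 - k) ∧
    (∑ i ∈ Finset.range 7, a i • N' ^ i) * N ^ (7 - k) = (∑ i ∈ Finset.range k, a i • N' ^ i) * N ^ (7 - k) := by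
  have hsub : Finset.range k ⊆ Finset.range 7 := Finset.range_subset_range.2 hk
  constructor
  · rw [Finset.sum_mul, Finset.sum_mul]
    symm
    refine Finset.sum_subset hsub fun i _ hi => ?_
    rw [Matrix.smul_mul, N_mul_zero (by rw [Finset.mem_range] at hi; omega), smul_zero]
  · rw [Finset.sum_mul, Finset.sum_mul]
    symm
    refine Finset.sum_subset hsub fun i _ hi => ?_
    rw [Matrix.smul_mul, N'_mul_zero (by rw [Finset.mem_range] at hi; omega), smul_zero]

/-- **The centralizer of `y`.** -/
theorem cent {z : GL75} (hz : z ∈ Hhat) (hc : z * y = y * z) (h5 : z ^ 15625 = 1) : ∃ k : ℕ, z = y ^ k := by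
  obtain ⟨a, ha⟩ := exists_coeff hc
  have h1 := mul_eq_one hz ha
  let c : ℕ → ℕ := fun i => (a i).val
  have hc5 : ∀ i, c i < 5 := fun i => ZMod.val_lt (a i)
  have hca : ∀ i, ((c i : ℕ) : ZMod 5) = a i := fun i => ZMod.natCast_zmod_val (a i)
  have lin1 : ∀ n ≤ 7, Ok (red (lin (tab TN) c n)) ∧
      toM (red (lin (tab TN) c n)) = ∑ i ∈ Finset.range n, a i • N ^ i := by
    intro n hn
    obtain ⟨k1, k2⟩ := lin_spec (P := tab TN) (c := c) hn (fun i hi => ok_TN i (by omega))
      (fun i => by have := hc5 i; omega)
    refine ⟨k1, ?_⟩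
    rw [k2]
    refine Finset.sum_congr rfl fun i hi => ?_
    rw [hca, N_pow i (by rw [Finset.mem_range] at hi; omega)]
  have lin2 : ∀ n ≤ 7, Ok (red (lin (fun i => tab TN (7 + i)) c n)) ∧
      toM (red (lin (fun i => tab TN (7 + i)) c n)) = ∑ i ∈ Finset.range n, a i • N' ^ i := by
    intro n hn
    obtain ⟨k1, k2⟩ := lin_spec (P := fun i => tab TN (7 + i)) (c := c) hn (fun i hi => ok_TN (7 + i) (by omega))
      (fun i => by have := hc5 i; omega)
    refine ⟨k1, ?_⟩
    rw [k2]
    refine Finset.sum_congr rfl fun i hi => ?_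
    rw [hca, N'_pow i (by rw [Finset.mem_range] at hi; omega)]
  have hchk : ∀ k < 7, chk (lin (tab TN) c (k + 1)) (lin (fun i => tab TN (7 + i)) c (k + 1)) (tab TN (6 - k)) = true := by
    intro k hk
    obtain ⟨k1, k2⟩ := lin1 (k + 1) (by omega)
    obtain ⟨k3, k4⟩ := lin2 (k + 1) (by omega)
    have h2 : mulN (mulN (red (lin (tab TN) c (k + 1))) (red (lin (fun i => tab TN (7 + i)) c (k + 1))))
        (tab TN (6 - k)) = tab TN (6 - k) := by
      refine toM_inj (mulN_ok (mulN_ok k1 k3) (ok_TN _ (by omega))) (ok_TN _ (by omega)) ?_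
      rw [toM_mulN (mulN_ok k1 k3) (ok_TN _ (by omega)), toM_mulN k1 k3, k2, k4, N_pow (6 - k) (by omega)]
      have e : 6 - k = 7 - (k + 1) := by omega
      rw [e]
      obtain ⟨t1, t2⟩ := trunc (a := a) (k := k + 1) (by omega)
      set q := ∑ i ∈ Finset.range 7, a i • N' ^ i with hq
      have hcm : Commute q (N ^ (7 - (k + 1))) := by
        rw [hq]
        refine Commute.sum_left _ _ _ fun i _ => ?_
        exact ((comm_NN'.pow_pow i _).smul_left _)
      rw [mul_assoc, ← t2, hcm.eq, ← mul_assoc, ← t1, ← ha, mul_assoc, ← hcm.eq, ← mul_assoc, h1, one_mul]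
    rw [chk_eq, h2]
    exact Nat.beq_refl _
  have h4 := good_all c hc5 hchk
  obtain ⟨k1, k2⟩ := lin1 7 le_rfl
  have hrep : Rep (red (lin (tab TN) c 7)) z := ⟨k1, by rw [k2]; exact ha⟩
  obtain ⟨k, X', h7a, h7b⟩ := good_spec hrep h4 h5
  rcases oneK_spec h7a with h7c | ⟨i, hi, h7c⟩
  · rw [h7c] at h7b
    have h8 : z * y ^ k = 1 := Rep.inj h7b rep_one
    refine ⟨24 * k, ?_⟩
    have h9 : y ^ (24 * k) * y ^ k = 1 := by
      rw [← pow_add, show 24 * k + k = 25 * k by ring, pow_mul, pow25, one_pow]
    exact mul_right_cancel (h8.trans h9.symm)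
  · exfalso
    rw [h7c] at h7b
    have h9 := Rep.mul h7b (rep_ws i hi)
    rw [mulF_eq] at h9
    have h10 := npow_spec h9 (not_mem i hi)
    rw [val_bH] at h10
    apply h10
    have h11 : (⟨z * y ^ k * ev gen (ws.getD i []), Hhat.mul_mem (Hhat.mul_mem hz (Hhat.pow_mem y_mem k))
      (ev_mem_Hhat _)⟩ : Hhat) ^ Nat.card Hhat = 1 := pow_card_eq_one'
    rw [Cfsg.Agent.Ly.Setup.card_Hhat] at h11
    have h12 := congrArg Subtype.val h11
    rw [SubmonoidClass.coe_pow] at h12
    exact h12

end Cfsg.Agent.H456.SB.LyC
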